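import Mathlib

/-!
A rigidity fact on automorphisms of the quaternion group of order 8: if `β³` is not inner and
`α` commutes with `β` modulo inner automorphisms, then `α` has 2-power order.
-/

set_option autoImplicit false

namespace CfsgLib.GL2

open QuaternionGroup

local notation "Q8" => QuaternionGroup 2

/-- The map with prescribed images of the generators. -/
def ext8 (A B : Q8) : Q8 → Q8
  | a i => A ^ i.val
  | xa i => B * A ^ i.val

/-- The elements, as a list. -/
def all8 : List Q8 := [a 0, a 1, a 2, a 3, xa 0, xa 1, xa 2, xa 3]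

/-- Pointwise equality on the group. -/
def agree (f g : Q8 → Q8) : Bool := all8.all fun x => decide (f x = g x)

/-- An automorphism, given by the images of the generators. -/
def validPair (A B : Q8) : Bool :=
  all8.all (fun x => all8.all fun y => decide (ext8 A B (x * y) = ext8 A B x * ext8 A B y)) &&
    all8.all fun y => all8.any fun x => decide (ext8 A B x = y)

/-- Inner maps. -/
def innerPair (f : Q8 → Q8) : Bool := all8.any fun q => agree f fun x => q * x * q⁻¹

/-- The rigidity statement, as a Boolean. -/
def rigid : Bool :=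
  all8.all fun A => all8.all fun B => !validPair A B
    || agree ((ext8 A B)^[8]) id
    || all8.all fun C => all8.all fun D => !validPair C D
      || innerPair ((ext8 C D)^[3])
      || !all8.any (fun q => agree (ext8 A B ∘ ext8 C D)
          fun x => q * ext8 C D (ext8 A B x) * q⁻¹)

theorem rigid_eq : rigid = true := by decide +kernel

theorem mem_all8 (x : Q8) : x ∈ all8 := by
  revert x
  decide

theorem ext8_eq (φ : MulAut Q8) : ext8 (φ (a 1)) (φ (xa 0)) = φ := by
  funext x
  cases x with
  | a i =>
    rw [ext8, ← map_pow, a_one_pow]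
    simp
  | xa i =>
    rw [ext8, ← map_pow, ← map_mul, a_one_pow, xa_mul_a]
    simp

theorem quaternionEight_rigid (α β : MulAut Q8)
    (hβ : ¬ ∃ q : Q8, ∀ x, (β ^ 3 : MulAut Q8) x = q * x * q⁻¹)
    (hcomm : ∃ q : Q8, ∀ x, α (β x) = q * β (α x) * q⁻¹) : α ^ 8 = 1 := by
  have hit : ∀ (φ : MulAut Q8) (n : ℕ), (φ ^ n : MulAut Q8) = (φ : Q8 → Q8)^[n] := by
    intro φ n
    induction n with
    | zero => rfl
    | succ n ih => rw [pow_succ, MulAut.coe_mul, ih, Function.iterate_succ]
  have hvalid : ∀ φ : MulAut Q8, validPair (φ (a 1)) (φ (xa 0)) = true := fun φ => by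
    simp only [validPair, ext8_eq, Bool.and_eq_true, List.all_eq_true, List.any_eq_true,
      decide_eq_true_eq]
    exact ⟨fun x _ y _ => map_mul φ x y, fun y _ => ⟨φ.symm y, mem_all8 _, by simp⟩⟩
  have h := rigid_eq
  simp only [rigid, List.all_eq_true, Bool.or_eq_true, Bool.not_eq_true'] at h
  rcases h (α (a 1)) (mem_all8 _) (α (xa 0)) (mem_all8 _) with (h1 | h1) | h1
  · rw [hvalid α] at h1; exact absurd h1 Bool.noConfusion
  · refine MulEquiv.ext fun x => ?_
    rw [ext8_eq, agree, List.all_eq_true] at h1
    simp only [decide_eq_true_eq] at h1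
    rw [hit, h1 x (mem_all8 x)]
    rfl
  · rcases h1 (β (a 1)) (mem_all8 _) (β (xa 0)) (mem_all8 _) with (h2 | h2) | h2
    · rw [hvalid β] at h2; exact absurd h2 Bool.noConfusion
    · exfalso
      apply hβ
      simp only [ext8_eq, innerPair, agree, List.any_eq_true, List.all_eq_true,
        decide_eq_true_eq] at h2
      obtain ⟨q, -, hq⟩ := h2
      exact ⟨q, fun x => by rw [hit]; exact hq x (mem_all8 x)⟩
    · exfalso
      obtain ⟨q, hq⟩ := hcomm
      simp only [ext8_eq, agree, List.any_eq_false, List.all_eq_true, decide_eq_true_eq] at h2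
      exact h2 q (mem_all8 q) fun x _ => hq x

end CfsgLib.GL2
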