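import Cfsg.Agent.Lib.SL2.Facts
import Cfsg.Agent.Lib.GL2.QuaternionEight
import Cfsg.Agent.Lib.Fusion.CyclicIndexTwo

/-!
Sylow 2-subgroups of `GL_2(q)`, `q` odd, through those of `SL_2(q)`: a model containing the
monomial 2-group, the strongly closed argument, and the action of odd normalizing elements.
-/

set_option autoImplicit false

namespace CfsgLib.GL2

open Matrix
open scoped MatrixGroups

variable {F : Type*} [Field F]

/-- `diag(u, v)`. -/
def dg : Fˣ × Fˣ →* GL (Fin 2) F where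
  toFun u :=
    ⟨!![(u.1 : F), 0; 0, (u.2 : F)], !![((u.1⁻¹ : Fˣ) : F), 0; 0, ((u.2⁻¹ : Fˣ) : F)],
      by simp [one_fin_two], by simp [one_fin_two]⟩
  map_one' := Units.ext (by simp [one_fin_two])
  map_mul' u v := Units.ext (by simp)

theorem dg_val (u : Fˣ × Fˣ) :
    (dg u : Matrix (Fin 2) (Fin 2) F) = !![(u.1 : F), 0; 0, (u.2 : F)] := rfl

/-- The swap of the two coordinates. -/
def wS : GL (Fin 2) F :=
  ⟨!![0, 1; 1, 0], !![0, 1; 1, 0], by simp [one_fin_two], by simp [one_fin_two]⟩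

theorem wS_val : ((wS : GL (Fin 2) F) : Matrix (Fin 2) (Fin 2) F) = !![0, 1; 1, 0] := rfl

theorem wS_mul_self : (wS : GL (Fin 2) F) * wS = 1 := Units.ext (by simp [wS_val, one_fin_two])

theorem wS_dg (u v : Fˣ) : wS * dg (u, v) * (wS : GL (Fin 2) F)⁻¹ = dg (v, u) := by
  rw [mul_inv_eq_iff_eq_mul]
  exact Units.ext (by simp [wS_val, dg_val])

variable [Finite F]

set_option linter.unusedSectionVars false

/-- A generator of the 2-part of `Fˣ`. -/
theorem exists_twoGen : ∃ t : Fˣ, (∃ a : ℕ, orderOf t = 2 ^ a) ∧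
    ∀ u : Fˣ, (∃ m : ℕ, u ^ 2 ^ m = 1) → u ∈ Subgroup.zpowers t := by
  have : Fact (Nat.Prime 2) := ⟨Nat.prime_two⟩
  obtain ⟨P⟩ : Nonempty (Sylow 2 Fˣ) := inferInstance
  obtain ⟨t, ht⟩ := (inferInstance : IsCyclic (P : Subgroup Fˣ)).exists_generator
  obtain ⟨a, ha⟩ := IsPGroup.iff_orderOf.1 P.isPGroup' t
  refine ⟨t, ⟨a, by rw [← Subgroup.orderOf_coe] at ha; exact ha⟩, fun u ⟨m, hu⟩ => ?_⟩
  have hz : IsPGroup 2 (Subgroup.zpowers u) := IsPGroup.of_card
    (n := ((Nat.dvd_prime_pow Nat.prime_two).1 (orderOf_dvd_of_pow_eq_one hu)).choose) (by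
      rw [Nat.card_zpowers]
      exact ((Nat.dvd_prime_pow Nat.prime_two).1 (orderOf_dvd_of_pow_eq_one hu)).choose_spec.2)
  obtain ⟨R, hR⟩ := hz.exists_le_sylow
  obtain ⟨g, rfl⟩ := MulAction.exists_smul_eq Fˣ R P
  obtain ⟨n, hn⟩ := Subgroup.mem_zpowers_iff.1 (ht ⟨u, ⟨u, hR (Subgroup.mem_zpowers u), by
    simp [mul_comm g, mul_assoc]⟩⟩)
  exact ⟨n, congrArg Subtype.val hn⟩

variable {t : Fˣ}

omit [Finite F] in
theorem neg_one_mem (ht : ∀ u : Fˣ, (∃ m : ℕ, u ^ 2 ^ m = 1) → u ∈ Subgroup.zpowers t) :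
    (-1 : Fˣ) ∈ Subgroup.zpowers t := ht _ ⟨1, by simp⟩

/-- `t` is not a square. -/
theorem not_isSquare (h2 : (2 : F) ≠ 0) (hord : ∃ a : ℕ, orderOf t = 2 ^ a)
    (ht : ∀ u : Fˣ, (∃ m : ℕ, u ^ 2 ^ m = 1) → u ∈ Subgroup.zpowers t) (c : Fˣ) : c * c ≠ t := by
  obtain ⟨a, ha⟩ := hord
  intro hc
  have hcm : c ^ 2 ^ (a + 1) = 1 := by
    rw [pow_succ', pow_mul, pow_two, hc, ← ha, pow_orderOf_eq_one]
  obtain ⟨k, hk⟩ := Subgroup.mem_zpowers_iff.1 (ht c ⟨a + 1, hcm⟩)
  have h1 : t ^ (2 * k - 1) = 1 := by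
    rw [_root_.zpow_sub_one, two_mul, _root_.zpow_add, hk, hc, mul_inv_cancel]
  have h3 := orderOf_dvd_iff_zpow_eq_one.2 h1
  rw [ha] at h3
  cases a with
  | zero =>
    have ht1 : t = 1 := orderOf_eq_one_iff.1 (by simpa using ha)
    have := neg_one_mem ht
    rw [ht1, Subgroup.zpowers_one_eq_bot, Subgroup.mem_bot] at this
    have h4 : (-1 : F) = 1 := by simpa using congrArg Units.val this
    apply h2
    rw [show (2 : F) = 1 - (-1) by ring, h4, sub_self]
  | succ a =>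
    have : (2 : ℤ) ∣ 2 * k - 1 := dvd_trans ⟨2 ^ a, by push_cast; ring⟩ h3
    omega

/-- A Sylow 2-subgroup containing the monomial 2-group. -/
theorem exists_model (hord : ∃ a : ℕ, orderOf t = 2 ^ a) :
    ∃ S : Sylow 2 (GL (Fin 2) F),
      (∀ u v : Fˣ, u ∈ Subgroup.zpowers t → v ∈ Subgroup.zpowers t → dg (u, v) ∈ S) ∧ wS ∈ S := by
  have : Fact (Nat.Prime 2) := ⟨Nat.prime_two⟩
  obtain ⟨a, ha⟩ := hord
  set D := ((Subgroup.zpowers t).prod (Subgroup.zpowers t)).map (dg : Fˣ × Fˣ →* GL (Fin 2) F)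
    with hD
  have hP : IsPGroup 2 (Subgroup.zpowers t) :=
    IsPGroup.of_card (n := a) (by rw [Nat.card_zpowers, ha])
  have hDp : IsPGroup 2 D := by
    refine IsPGroup.map (IsPGroup.of_card (n := a + a) ?_) _
    rw [Nat.card_congr (Subgroup.prodEquiv _ _).toEquiv, Nat.card_prod, Nat.card_zpowers, ha,
      pow_add]
  have hW : IsPGroup 2 (Subgroup.zpowers (wS : GL (Fin 2) F)) := by
    rintro ⟨_, k, rfl⟩
    refine ⟨1, Subtype.ext ?_⟩
    show (wS ^ k) ^ 2 ^ 1 = (1 : GL (Fin 2) F)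
    rw [pow_one, pow_two, ← _root_.zpow_add, ← two_mul, _root_.zpow_mul, _root_.zpow_two, wS_mul_self,
      _root_.one_zpow]
  have hWD : Subgroup.zpowers (wS : GL (Fin 2) F) ≤ Subgroup.normalizer (D : Set (GL (Fin 2) F)) := by
    rw [Subgroup.zpowers_le]
    refine Subgroup.mem_normalizer_fintype fun x hx => ?_
    obtain ⟨⟨u, v⟩, huv, rfl⟩ := hx
    rw [wS_dg]
    exact ⟨(v, u), ⟨huv.2, huv.1⟩, rfl⟩
  obtain ⟨S, hS⟩ := (hW.to_sup_of_normal_right' hDp hWD).exists_le_sylow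
  exact ⟨S, fun u v hu hv => hS (Subgroup.mem_sup_right ⟨(u, v), ⟨hu, hv⟩, rfl⟩),
    hS (Subgroup.mem_sup_left (Subgroup.mem_zpowers _))⟩

/-- The intersection of a Sylow 2-subgroup with `SL_2` is a Sylow 2-subgroup. -/
theorem exists_sylow_SL (S : Sylow 2 (GL (Fin 2) F)) :
    ∃ P : Sylow 2 SL(2, F), (P : Subgroup SL(2, F)) =
      (S : Subgroup (GL (Fin 2) F)).comap Matrix.SpecialLinearGroup.toGL := by
  have : Fact (Nat.Prime 2) := ⟨Nat.prime_two⟩
  set φ : SL(2, F) →* GL (Fin 2) F := Matrix.SpecialLinearGroup.toGL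
  have hφ : Function.Injective φ := CfsgLib.Classical.toGL_injective'
  set Q := (S : Subgroup (GL (Fin 2) F)).comap φ
  have hQ : IsPGroup 2 Q := S.isPGroup'.comap_of_injective φ hφ
  obtain ⟨P, hP⟩ := hQ.exists_le_sylow
  refine ⟨P, (Subgroup.eq_of_le_of_card_ge hP ?_).symm⟩
  obtain ⟨T, hT⟩ := (P.isPGroup'.map φ).exists_le_sylow
  obtain ⟨g, rfl⟩ := MulAction.exists_smul_eq (GL (Fin 2) F) S T
  -- conjugation by `g` preserves determinant one
  have hrange : ∀ x : SL(2, F), ∃ y : SL(2, F), φ y = g⁻¹ * φ x * g := by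
    intro x
    have hd : ((g⁻¹ * φ x * g : GL (Fin 2) F) : Matrix (Fin 2) (Fin 2) F).det = 1 := by
      have h : GeneralLinearGroup.det (g⁻¹ * φ x * g) = 1 := by
        rw [map_mul, map_mul, map_inv, show GeneralLinearGroup.det (φ x) = 1 from
          Units.ext x.2, mul_one, inv_mul_cancel]
      have h' := congrArg Units.val h
      rwa [GeneralLinearGroup.val_det_apply, Units.val_one] at h'
    exact ⟨⟨_, hd⟩, Units.ext rfl⟩
  choose f hf using hrange
  refine Nat.card_le_card_of_injective (fun x : (P : Subgroup SL(2, F)) => (⟨f x, ?_⟩ : Q)) ?_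
  · show φ (f x) ∈ (S : Subgroup (GL (Fin 2) F))
    rw [hf]
    obtain ⟨y, hy, hye⟩ := hT ⟨x, x.2, rfl⟩
    have : g * y * g⁻¹ = φ x := hye
    rw [← this, show g⁻¹ * (g * y * g⁻¹) * g = y by group]
    exact hy
  · intro x y hxy
    have h := congrArg (fun z : Q => φ z) hxy
    simp only [hf] at h
    exact Subtype.ext (hφ (mul_left_cancel (mul_right_cancel h)))

/-- The scalar matrices `±1` are the central involutions of a model. -/
theorem eq_neg_one_of_central (h2 : (2 : F) ≠ 0)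
    (ht : ∀ u : Fˣ, (∃ m : ℕ, u ^ 2 ^ m = 1) → u ∈ Subgroup.zpowers t)
    {S : Sylow 2 (GL (Fin 2) F)}
    (hdg : ∀ u v : Fˣ, u ∈ Subgroup.zpowers t → v ∈ Subgroup.zpowers t → dg (u, v) ∈ S)
    (hw : wS ∈ S) {c : GL (Fin 2) F} (hc : ∀ x ∈ S, x * c = c * x) (hc2 : c * c = 1)
    (hc1 : c ≠ 1) : c = -1 := by
  have hd := congrArg Units.val (hc _ (hdg (-1) 1 (neg_one_mem ht) (one_mem _)))
  have hwc := congrArg Units.val (hc _ hw)
  simp only [Units.val_mul, dg_val, wS_val, Units.val_neg, Units.val_one] at hd hwc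
  set C : Matrix (Fin 2) (Fin 2) F := (c : Matrix (Fin 2) (Fin 2) F) with hC
  have e01 := congr_fun₂ hd 0 1
  have e10 := congr_fun₂ hd 1 0
  have w01 := congr_fun₂ hwc 0 1
  simp [Matrix.mul_apply, Fin.sum_univ_two] at e01 e10 w01
  have h01 : C 0 1 = 0 := by
    have : (2 : F) * C 0 1 = 0 := by linear_combination -e01
    exact (mul_eq_zero.1 this).resolve_left h2
  have h10 : C 1 0 = 0 := by
    have : (2 : F) * C 1 0 = 0 := by linear_combination e10
    exact (mul_eq_zero.1 this).resolve_left h2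
  have h0 := congrArg Units.val hc2
  rw [Units.val_mul, Units.val_one] at h0
  have hsq := congr_fun₂ h0 0 0
  simp [Matrix.mul_apply, Fin.sum_univ_two, ← hC, h01] at hsq
  rcases mul_self_eq_one_iff.1 hsq with h | h
  · exact absurd (Units.ext (Matrix.ext fun i j => by
      fin_cases i <;> fin_cases j <;> simp [← hC, h01, h10, h, w01])) hc1
  · exact Units.ext (Matrix.ext fun i j => by
      fin_cases i <;> fin_cases j <;> simp [← hC, h01, h10, h, w01])

/-- The standard element of order four. -/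
def yS : SL(2, F) := ⟨!![0, 1; -1, 0], by simp [det_fin_two_of]⟩

omit [Finite F] in
theorem yS_mul_self : (yS : SL(2, F)) * yS = -1 := by
  apply CfsgLib.SL2.mul_self_eq_neg_one_of_trace
  simp [yS, trace_fin_two]

theorem toGL_yS : Matrix.SpecialLinearGroup.toGL (yS : SL(2, F)) = dg (1, -1) * wS :=
  Units.ext (by
    show (yS : SL(2, F)).val = _
    simp [yS, dg_val, wS_val])

/-- The structure of `S ∩ SL_2`. -/
theorem le_of_order_four (hodd : Odd (Nat.card F)) (P : Sylow 2 SL(2, F))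
    (T : Subgroup SL(2, F)) (h : ∀ x ∈ (P : Subgroup SL(2, F)), x * x = -1 → x ∈ T) :
    (P : Subgroup SL(2, F)) ≤ T := by
  have h2 := CfsgLib.SL2.odd_card_two_ne_zero hodd
  obtain ⟨k, -, ⟨e⟩⟩ := CfsgLib.SL2.sylow_two_quaternion hodd P
  have : NeZero (2 ^ k) := ⟨by positivity⟩
  have hxa : ∀ i, ((e.symm (QuaternionGroup.xa i) : (P : Subgroup SL(2, F))) : SL(2, F)) ∈ T := by
    intro i
    refine h _ (SetLike.coe_mem _) ?_
    set x := ((e.symm (QuaternionGroup.xa i) : (P : Subgroup SL(2, F))) : SL(2, F)) with hx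
    have hxo : orderOf x = 4 := by
      rw [hx, Subgroup.orderOf_coe, MulEquiv.orderOf_eq, QuaternionGroup.orderOf_xa]
    refine CfsgLib.SL2.eq_neg_one_of_mul_self h2 ?_ ?_
    · rw [show x * x * (x * x) = x ^ 4 by simp only [pow_succ, pow_zero, one_mul, mul_assoc], ← hxo,
        pow_orderOf_eq_one]
    · intro h'
      have := orderOf_dvd_of_pow_eq_one (x := x) (n := 2) (by rw [sq]; exact h')
      rw [hxo] at this
      norm_num at this
  intro x hx
  obtain ⟨y, hy⟩ := e.symm.surjective ⟨x, hx⟩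
  cases y with
  | xa i =>
    have := hxa i
    rwa [hy] at this
  | a i =>
    have h3 : ((e.symm (QuaternionGroup.a i) : (P : Subgroup SL(2, F))) : SL(2, F)) ∈ T := by
      have e1 : QuaternionGroup.a i =
          (QuaternionGroup.xa 0 : QuaternionGroup (2 ^ k))⁻¹ * QuaternionGroup.xa i := by
        rw [eq_inv_mul_iff_mul_eq]
        simp
      rw [e1, map_mul, map_inv, Subgroup.coe_mul, Subgroup.coe_inv]
      exact mul_mem (inv_mem (hxa 0)) (hxa i)
    rwa [hy] at h3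

/-- Elements commuting with two noncommuting elements of `SL_2` are scalar. -/
theorem eq_smul_one_of_commute {X : Matrix (Fin 2) (Fin 2) F} {y z : SL(2, F)}
    (hyz : y * z ≠ z * y) (hy : X * (y : Matrix (Fin 2) (Fin 2) F) = (y : Matrix (Fin 2) (Fin 2) F) * X)
    (hz : X * (z : Matrix (Fin 2) (Fin 2) F) = (z : Matrix (Fin 2) (Fin 2) F) * X) :
    ∃ a : F, X = a • 1 := by
  have hn : CfsgLib.SL2.NonScalar (y : Matrix (Fin 2) (Fin 2) F) := by
    by_contra hn
    exact hyz ((Subgroup.mem_center_iff.1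
      ((CfsgLib.SL2.mem_center_iff_not_nonScalar y).2 hn) z).symm)
  obtain ⟨a, b, rfl⟩ := CfsgLib.SL2.exists_eq_of_commute hn hy
  by_cases hb : b = 0
  · exact ⟨a, by simp [hb]⟩
  · exfalso
    apply hyz
    simp only [add_mul, mul_add, smul_mul_assoc, mul_smul_comm, one_mul, mul_one,
      add_right_inj] at hz
    exact Subtype.ext (by simpa using smul_right_injective _ hb hz)

/-- An element of `GL_2` normalizing a model and of odd action centralizes it. -/
theorem centralizes_model (hodd : Odd (Nat.card F)) (hord : ∃ a : ℕ, orderOf t = 2 ^ a)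
    (ht : ∀ u : Fˣ, (∃ m : ℕ, u ^ 2 ^ m = 1) → u ∈ Subgroup.zpowers t)
    (S : Sylow 2 (GL (Fin 2) F))
    (hdg : ∀ u v : Fˣ, u ∈ Subgroup.zpowers t → v ∈ Subgroup.zpowers t → dg (u, v) ∈ S)
    (A : GL (Fin 2) F)
    (hA : A ∈ Subgroup.normalizer ((S : Subgroup (GL (Fin 2) F)) : Set (GL (Fin 2) F)))
    {r : ℕ} (hr : ¬ 2 ∣ r) (hAr : ∀ x ∈ S, A ^ r * x * (A ^ r)⁻¹ = x) :
    ∀ x ∈ S, A * x * A⁻¹ = x := by
  have : Fact (Nat.Prime 2) := ⟨Nat.prime_two⟩
  have h2 := CfsgLib.SL2.odd_card_two_ne_zero hodd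
  set φ : SL(2, F) →* GL (Fin 2) F := Matrix.SpecialLinearGroup.toGL
  have hφ : Function.Injective φ := CfsgLib.Classical.toGL_injective'
  obtain ⟨P, hP⟩ := exists_sylow_SL S
  set Q := (P : Subgroup SL(2, F)).map φ with hQdef
  have hQS : ∀ {x}, x ∈ Q ↔ x ∈ S ∧ GeneralLinearGroup.det x = 1 := by
    intro x
    rw [hQdef, hP]
    constructor
    · rintro ⟨y, hy, rfl⟩
      exact ⟨hy, Units.ext y.2⟩
    · rintro ⟨hx, hd⟩
      have hd' : (x : Matrix (Fin 2) (Fin 2) F).det = 1 := by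
        rw [← GeneralLinearGroup.val_det_apply, hd, Units.val_one]
      refine ⟨⟨_, hd'⟩, ?_, Units.ext rfl⟩
      show φ ⟨_, hd'⟩ ∈ (S : Subgroup (GL (Fin 2) F))
      rwa [show φ ⟨_, hd'⟩ = x from Units.ext rfl]
  have hdet : ∀ g x : GL (Fin 2) F,
      GeneralLinearGroup.det (g * x * g⁻¹) = GeneralLinearGroup.det x := fun g x => by
    rw [map_mul, map_mul, map_inv, mul_inv_cancel_comm]
  have hnormQ : ∀ g ∈ Subgroup.normalizer ((S : Subgroup (GL (Fin 2) F)) : Set (GL (Fin 2) F)),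
      g ∈ Subgroup.normalizer (Q : Set (GL (Fin 2) F)) := by
    intro g hg
    refine Subgroup.mem_normalizer_iff.2 fun x => ?_
    show x ∈ Q ↔ g * x * g⁻¹ ∈ Q
    rw [hQS, hQS, hdet]
    exact and_congr_left fun _ => Subgroup.mem_normalizer_iff.1 hg x
  have hAQ := hnormQ A hA
  -- it is enough to centralize `Q`
  suffices hQ : ∀ x ∈ Q, A * x * A⁻¹ = x by
    intro x hx
    have hq : A * x * A⁻¹ * x⁻¹ ∈ Q := hQS.2
      ⟨mul_mem ((Subgroup.mem_normalizer_iff.1 hA x).1 hx) (inv_mem hx), by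
        rw [map_mul, hdet, map_inv, mul_inv_cancel]⟩
    set q := A * x * A⁻¹ * x⁻¹ with hqdef
    have hAx : A * x * A⁻¹ = q * x := by rw [hqdef, inv_mul_cancel_right]
    have hn : ∀ n : ℕ, A ^ n * x * (A ^ n)⁻¹ = q ^ n * x := by
      intro n
      induction n with
      | zero => simp
      | succ n ih =>
        rw [pow_succ', _root_.mul_inv_rev, show A * A ^ n * x * ((A ^ n)⁻¹ * A⁻¹) =
          A * (A ^ n * x * (A ^ n)⁻¹) * A⁻¹ by group, ih,
          show A * (q ^ n * x) * A⁻¹ = (A * q ^ n * A⁻¹) * (A * x * A⁻¹) by group,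
          hQ _ (pow_mem hq n), hAx, ← mul_assoc, ← pow_succ]
    have hqr : q ^ r = 1 := mul_eq_right.1 ((hn r).symm.trans (hAr x hx))
    obtain ⟨m, hm⟩ := S.isPGroup' ⟨q, (hQS.1 hq).1⟩
    have hm' : q ^ 2 ^ m = 1 := congrArg Subtype.val hm
    have : q = 1 := by
      rw [← orderOf_eq_one_iff]
      refine Nat.eq_one_of_dvd_coprimes (Nat.Coprime.pow_left m
        ((Nat.prime_two.coprime_iff_not_dvd).2 hr)) (orderOf_dvd_of_pow_eq_one hm')
        (orderOf_dvd_of_pow_eq_one hqr)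
    rw [hAx, this, one_mul]
  -- the automorphism of `Q`
  set α : MulAut Q := Q.normalizerMonoidHom ⟨A, hAQ⟩ with hα
  suffices α = 1 by
    intro x hx
    exact congrArg Subtype.val (DFunLike.congr_fun this (⟨x, hx⟩ : Q))
  have hαr : α ^ r = 1 := by
    rw [hα, ← map_pow, SubmonoidClass.mk_pow]
    exact MulEquiv.ext fun x => Subtype.ext (hAr x (hQS.1 x.2).1)
  suffices ∃ m : ℕ, α ^ 2 ^ m = 1 by
    obtain ⟨m, hm⟩ := this
    rw [← orderOf_eq_one_iff]
    exact Nat.eq_one_of_dvd_coprimes (Nat.Coprime.pow_left m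
      ((Nat.prime_two.coprime_iff_not_dvd).2 hr)) (orderOf_dvd_of_pow_eq_one hm)
      (orderOf_dvd_of_pow_eq_one hαr)
  obtain ⟨k, hk, ⟨e₀⟩⟩ := CfsgLib.SL2.sylow_two_quaternion hodd P
  let e : Q ≃* QuaternionGroup (2 ^ k) :=
    ((P : Subgroup SL(2, F)).equivMapOfInjective φ hφ).symm.trans e₀
  have hne : NeZero (2 ^ k) := ⟨by positivity⟩
  rcases eq_or_lt_of_le hk with rfl | hk2
  · -- the quaternion group of order eight
    have hd3 : dg (t, 1) ∈ S := hdg t 1 (Subgroup.mem_zpowers t) (one_mem _)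
    set s := dg (t, (1 : Fˣ)) with hs
    set β : MulAut Q := Q.normalizerMonoidHom ⟨s, hnormQ s (Subgroup.le_normalizer hd3)⟩ with hβ
    have hu : ¬ ∃ q : Q, ∀ x, (β ^ 3 : MulAut Q) x = q * x * q⁻¹ := by
      rintro ⟨q, hq⟩
      set X : GL (Fin 2) F := (q : GL (Fin 2) F)⁻¹ * s ^ 3
      have hX : ∀ x ∈ Q, X * x = x * X := by
        intro x hx
        have h := congrArg Subtype.val (hq ⟨x, hx⟩)
        rw [hβ, ← map_pow, SubmonoidClass.mk_pow] at h
        have h' : s ^ 3 * x * (s ^ 3)⁻¹ = (q : GL (Fin 2) F) * x * (q : GL (Fin 2) F)⁻¹ := h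
        calc X * x = (q : GL (Fin 2) F)⁻¹ * (s ^ 3 * x * (s ^ 3)⁻¹) * s ^ 3 := by
              simp only [X]; group
          _ = x * X := by rw [h']; simp only [X]; group
      let u : Q := e.symm (QuaternionGroup.a 1)
      let v : Q := e.symm (QuaternionGroup.xa 0)
      obtain ⟨⟨y, hy, hye⟩, ⟨z, hz, hze⟩⟩ := And.intro u.2 v.2
      have hyz : y * z ≠ z * y := by
        intro h
        have h' : u * v = v * u := Subtype.ext (by
          rw [Subgroup.coe_mul, Subgroup.coe_mul, ← hye, ← hze, ← map_mul, h, map_mul])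
        have := congrArg e h'
        simp only [u, v, map_mul, MulEquiv.apply_symm_apply] at this
        exact absurd this (by decide)
      obtain ⟨c, hc⟩ := eq_smul_one_of_commute hyz
        (X := (X : Matrix (Fin 2) (Fin 2) F))
        (congrArg Units.val (hye ▸ hX u u.2 : X * φ y = φ y * X))
        (congrArg Units.val (hze ▸ hX v v.2 : X * φ z = φ z * X))
      have hdX : GeneralLinearGroup.det X = t ^ 3 := by
        have hs1 : GeneralLinearGroup.det s = t := Units.ext (by simp [hs, dg_val, det_fin_two])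
        rw [map_mul, map_inv, (hQS.1 q.2).2, inv_one, one_mul, map_pow, hs1]
      have hc2 : c * c = ((t ^ 3 : Fˣ) : F) := by
        rw [← hdX]
        show c * c = (X : Matrix (Fin 2) (Fin 2) F).det
        rw [hc, Matrix.det_smul, det_one, mul_one, Fintype.card_fin, pow_two]
      have hc0 : c ≠ 0 := fun h => (t ^ 3).ne_zero (by rw [← hc2, h, mul_zero])
      refine not_isSquare h2 hord ht (Units.mk0 c hc0 * t⁻¹) (Units.ext ?_)
      simp only [Units.val_mul, Units.val_inv_eq_inv_val, Units.val_mk0]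
      rw [show c * (t : F)⁻¹ * (c * (t : F)⁻¹) = c * c * ((t : F)⁻¹ * (t : F)⁻¹) by ring, hc2]
      push_cast
      field_simp
    have hcomm : ∃ q : Q, ∀ x, α (β x) = q * β (α x) * q⁻¹ := by
      have hq : A * s * A⁻¹ * s⁻¹ ∈ Q := hQS.2
        ⟨mul_mem ((Subgroup.mem_normalizer_iff.1 hA s).1 hd3) (inv_mem hd3), by
          rw [map_mul, hdet, map_inv, mul_inv_cancel]⟩
      refine ⟨⟨_, hq⟩, fun x => Subtype.ext ?_⟩
      show A * (s * (x : GL (Fin 2) F) * s⁻¹) * A⁻¹ =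
        A * s * A⁻¹ * s⁻¹ * (s * (A * (x : GL (Fin 2) F) * A⁻¹) * s⁻¹) * (A * s * A⁻¹ * s⁻¹)⁻¹
      group
    let C : MulAut Q ≃* MulAut (QuaternionGroup (2 ^ 1)) := MulAut.congr e
    have hC : ∀ (φ : MulAut Q) x, C φ x = e (φ (e.symm x)) := fun φ x => rfl
    have h8 := quaternionEight_rigid (C α) (C β) (by
        rintro ⟨q, hq⟩
        refine hu ⟨e.symm q, fun x => e.injective ?_⟩
        have := hq (e x)
        rw [← map_pow, hC, e.symm_apply_apply] at this
        rw [this, map_mul, map_mul, map_inv, e.apply_symm_apply]) (by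
        obtain ⟨q, hq⟩ := hcomm
        refine ⟨e q, fun x => ?_⟩
        simp only [hC, e.symm_apply_apply, hq (e.symm x), map_mul, map_inv])
    exact ⟨3, C.injective (by rw [map_pow, map_one]; exact h8)⟩
  · -- a larger quaternion group
    have hcyc : IsPGroup 2 (MulAut (QuaternionGroup (2 ^ k))) := by
      refine CfsgLib.Fusion.isPGroup_mulAut_of_cyclic_index_two (k := k + 1) (QuaternionGroup.a 1)
        ?_ (by omega) ?_ ?_
      · rw [QuaternionGroup.orderOf_a_one, pow_succ']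
      · have h := Subgroup.card_mul_index
          (Subgroup.zpowers (QuaternionGroup.a 1 : QuaternionGroup (2 ^ k)))
        rw [Nat.card_zpowers, QuaternionGroup.orderOf_a_one, Nat.card_eq_fintype_card,
          QuaternionGroup.card, show 4 * 2 ^ k = 2 * 2 ^ k * 2 by ring] at h
        exact Nat.eq_of_mul_eq_mul_left (by positivity) h
      · intro x hx
        cases x with
        | a i =>
          exfalso
          apply hx
          rw [Subgroup.mem_zpowers_iff]
          exact ⟨i.val, by rw [zpow_natCast, QuaternionGroup.a_one_pow]; simp⟩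
        | xa i =>
          rw [QuaternionGroup.orderOf_xa]
          calc 4 < 2 ^ 3 := by norm_num
            _ ≤ 2 ^ (k + 1) := Nat.pow_le_pow_right two_pos (by omega)
    obtain ⟨m, hm⟩ := hcyc ((MulAut.congr e) α)
    exact ⟨m, (MulAut.congr e).injective (by rw [map_pow, map_one]; exact hm)⟩

end CfsgLib.GL2
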