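import Cfsg.Agent.Lib.GL2.SylowTwo

/-!
The unitary group in two dimensions inside `GL_2` and monomial 2-subgroups in a conjugated basis.
-/

set_option autoImplicit false

namespace CfsgLib.GL2

open Matrix

variable {F : Type*} [Field F] (σ : F ≃+* F)

/-- Unitary matrices. -/
def IsU (A : Matrix (Fin 2) (Fin 2) F) : Prop := (A.map σ)ᵀ * A = 1

variable {σ}

theorem IsU.mul {A B : Matrix (Fin 2) (Fin 2) F} (hA : IsU σ A) (hB : IsU σ B) : IsU σ (A * B) := by
  unfold IsU at *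
  rw [Matrix.map_mul, transpose_mul, Matrix.mul_assoc, ← Matrix.mul_assoc (A.map σ)ᵀ, hA,
    Matrix.one_mul, hB]

theorem IsU.inv (hσ : ∀ x, σ (σ x) = x) {A : GL (Fin 2) F} (hA : IsU σ (A : Matrix (Fin 2) (Fin 2) F)) :
    IsU σ ((A⁻¹ : GL (Fin 2) F) : Matrix (Fin 2) (Fin 2) F) := by
  set M := (A : Matrix (Fin 2) (Fin 2) F) with hM
  have h : ((A⁻¹ : GL (Fin 2) F) : Matrix (Fin 2) (Fin 2) F) = (M.map σ)ᵀ :=
    left_inv_eq_right_inv (Units.inv_mul A) (mul_eq_one_comm.1 hA) |>.trans rfl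
  unfold IsU at *
  rw [h, transpose_map, Matrix.map_map, show (σ : F → F) ∘ (σ : F → F) = id from funext hσ,
    Matrix.map_id, transpose_transpose]
  exact mul_eq_one_comm.1 hA

variable (σ) in
/-- The unitary group. -/
def U2 (hσ : ∀ x, σ (σ x) = x) : Subgroup (GL (Fin 2) F) where
  carrier := {A | IsU σ (A : Matrix (Fin 2) (Fin 2) F)}
  one_mem' := by simp [IsU]
  mul_mem' {A B} hA hB := by rw [Set.mem_setOf_eq, Units.val_mul]; exact hA.mul hB
  inv_mem' {A} hA := IsU.inv hσ hA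

variable {hσ : ∀ x, σ (σ x) = x}

theorem mem_U2 {A : GL (Fin 2) F} : A ∈ U2 σ hσ ↔ IsU σ (A : Matrix (Fin 2) (Fin 2) F) := Iff.rfl

theorem neg_one_mem_U2 : (-1 : GL (Fin 2) F) ∈ U2 σ hσ := by
  show IsU σ _
  ext i j
  fin_cases i <;> fin_cases j <;> simp [IsU, Matrix.mul_apply, Fin.sum_univ_two]

theorem det_norm {A : GL (Fin 2) F} (hA : A ∈ U2 σ hσ) :
    σ (A : Matrix (Fin 2) (Fin 2) F).det * (A : Matrix (Fin 2) (Fin 2) F).det = 1 := by
  have h := congrArg Matrix.det (mem_U2.1 hA)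
  rw [det_mul, det_one, det_transpose] at h
  rw [show σ (A : Matrix (Fin 2) (Fin 2) F).det = _ from RingHom.map_det σ.toRingHom _]
  exact h

theorem dg_mem_U2 {u v : Fˣ} (hu : σ (u : F) * u = 1) (hv : σ (v : F) * v = 1) :
    dg (u, v) ∈ U2 σ hσ := by
  show IsU σ _
  ext i j
  fin_cases i <;> fin_cases j <;>
    simp [IsU, dg_val, Matrix.mul_apply, Fin.sum_univ_two, hu, hv]

theorem wS_mem_U2 : (wS : GL (Fin 2) F) ∈ U2 σ hσ := by
  show IsU σ _
  ext i j
  fin_cases i <;> fin_cases j <;> simp [IsU, wS_val, Matrix.mul_apply, Fin.sum_univ_two]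

/-! ### Involutions -/

variable (h2 : (2 : F) ≠ 0) (hnorm : ∀ x, σ x = x → ∃ c, c * σ c = x)

/-- The form. -/
def hf (σ : F ≃+* F) (x y : Fin 2 → F) : F := σ (x 0) * y 0 + σ (x 1) * y 1

include h2 hnorm hσ in
/-- An involution of the unitary group is `-1` or a conjugate of `diag(1, -1)`. -/
theorem U2_involution_cases {c : GL (Fin 2) F} (hc : c ∈ U2 σ hσ) (hcc : c * c = 1) (hc1 : c ≠ 1) :
    c = -1 ∨ ∃ g ∈ U2 σ hσ, g * c * g⁻¹ = dg (1, -1) := by
  set M : Matrix (Fin 2) (Fin 2) F := (c : Matrix (Fin 2) (Fin 2) F) with hM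
  have hMM : M * M = 1 := by rw [hM, ← Units.val_mul, hcc, Units.val_one]
  by_cases hn : c = -1
  · exact Or.inl hn
  right
  have hiso : ∀ x y, hf σ (M *ᵥ x) (M *ᵥ y) = hf σ x y := fun x y => by
    have e : ∀ x y, hf σ x y = (fun i => σ (x i)) ⬝ᵥ y := fun x y => by
      simp [hf, dotProduct, Fin.sum_univ_two]
    rw [e, e, show (fun i => σ ((M *ᵥ x) i)) = M.map σ *ᵥ fun i => σ (x i) from
      funext fun i => RingHom.map_mulVec σ.toRingHom M x i, ← vecMul_transpose,
      ← dotProduct_mulVec, mulVec_mulVec, (mem_U2.1 hc : (M.map σ)ᵀ * M = 1), one_mulVec]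
  have hfix : ∀ z : Fin 2 → F, M *ᵥ (z + M *ᵥ z) = z + M *ᵥ z := fun z => by
    rw [mulVec_add, mulVec_mulVec, hMM, one_mulVec, add_comm]
  have hneg : ∀ z : Fin 2 → F, M *ᵥ (z - M *ᵥ z) = -(z - M *ᵥ z) := fun z => by
    rw [mulVec_sub, mulVec_mulVec, hMM, one_mulVec, neg_sub]
  obtain ⟨u, hu0, hu⟩ : ∃ u : Fin 2 → F, u ≠ 0 ∧ M *ᵥ u = u := by
    by_contra hcon
    push Not at hcon
    refine hn (Units.ext (Matrix.ext_of_mulVec_single fun j => ?_))
    set z : Fin 2 → F := Pi.single j 1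
    have : z + M *ᵥ z = 0 := by
      by_contra h; exact hcon _ h (hfix z)
    rw [Units.val_neg, Units.val_one, neg_mulVec, one_mulVec]
    exact eq_neg_of_add_eq_zero_right this
  obtain ⟨v, hv0, hv⟩ : ∃ v : Fin 2 → F, v ≠ 0 ∧ M *ᵥ v = -v := by
    by_contra hcon
    push Not at hcon
    refine hc1 (Units.ext (Matrix.ext_of_mulVec_single fun j => ?_))
    set z : Fin 2 → F := Pi.single j 1
    have : z - M *ᵥ z = 0 := by
      by_contra h; exact hcon _ h (hneg z)
    rw [Units.val_one, one_mulVec]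
    exact (sub_eq_zero.1 this).symm
  have smulL : ∀ (a : F) x y, hf σ (a • x) y = σ a * hf σ x y := fun a x y => by
    simp [hf]; ring
  have smulR : ∀ (a : F) x y, hf σ x (a • y) = a * hf σ x y := fun a x y => by
    simp [hf]; ring
  have hsym : ∀ x y, σ (hf σ x y) = hf σ y x := fun x y => by
    simp [hf, hσ]; ring
  have huv : hf σ u v = 0 := by
    have h := hiso u v
    rw [hu, hv, show -v = (-1 : F) • v by simp, smulR] at h
    exact (mul_eq_zero.1 (show (2 : F) * hf σ u v = 0 by linear_combination -h)).resolve_left h2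
  have hli : ∀ z, hf σ z u = 0 → hf σ z v = 0 → z = 0 := by
    intro z hzu hzv
    have hD : u 0 * v 1 - u 1 * v 0 ≠ 0 := by
      intro hD
      -- `u` and `v` would be proportional
      have hprop : ∀ i, v 0 * u i = u 0 * v i ∧ v 1 * u i = u 1 * v i := by
        intro i
        fin_cases i <;> refine ⟨?_, ?_⟩ <;> simp only [Fin.zero_eta, Fin.mk_one] <;>
          first | ring1 | linear_combination hD | linear_combination -hD
      have key : ∀ i, v i = 0 := by
        intro i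
        have h0 : ∀ a b : F, a • u = b • v → b • v = 0 := fun a b h => by
          have := congrArg (fun x => M *ᵥ x) h
          rw [mulVec_smul, mulVec_smul, hu, hv, smul_neg, h] at this
          have h' : (2 : F) • (b • v) = 0 := by
            rw [two_smul]; exact add_eq_zero_iff_eq_neg.2 this
          exact (smul_eq_zero.1 h').resolve_left h2
        have e0 := h0 (v 0) (u 0) (funext fun i => (hprop i).1)
        have e1 := h0 (v 1) (u 1) (funext fun i => (hprop i).2)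
        rcases smul_eq_zero.1 e0 with a | a
        · rcases smul_eq_zero.1 e1 with b | b
          · exact absurd (funext fun k => by fin_cases k <;> assumption) hu0
          · exact absurd b hv0
        · exact absurd a hv0
      exact hv0 (funext key)
    simp only [hf] at hzu hzv
    have z0 : σ (z 0) * (u 0 * v 1 - u 1 * v 0) = 0 := by linear_combination (v 1) * hzu - (u 1) * hzv
    have z1 : σ (z 1) * (u 0 * v 1 - u 1 * v 0) = 0 := by linear_combination (u 0) * hzv - (v 0) * hzu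
    funext i
    fin_cases i
    · simpa using (mul_eq_zero.1 z0).resolve_right hD
    · simpa using (mul_eq_zero.1 z1).resolve_right hD
  have huu : hf σ u u ≠ 0 := fun h => hu0 (hli u h huv)
  have hvv : hf σ v v ≠ 0 := fun h => hv0 (hli v (by rw [← hsym, huv, map_zero]) h)
  obtain ⟨a, ha⟩ := hnorm (hf σ u u)⁻¹ (by rw [map_inv₀, hsym])
  obtain ⟨b, hb⟩ := hnorm (hf σ v v)⁻¹ (by rw [map_inv₀, hsym])
  set u' := a • u
  set v' := b • v
  have e1 : hf σ u' u' = 1 := by
    rw [smulL, smulR, ← mul_assoc, mul_comm (σ a), ha, inv_mul_cancel₀ huu]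
  have e2 : hf σ v' v' = 1 := by
    rw [smulL, smulR, ← mul_assoc, mul_comm (σ b), hb, inv_mul_cancel₀ hvv]
  have e3 : hf σ u' v' = 0 := by rw [smulL, smulR, huv, mul_zero, mul_zero]
  have e4 : hf σ v' u' = 0 := by rw [← hsym, e3, map_zero]
  set Q : Matrix (Fin 2) (Fin 2) F := !![u' 0, v' 0; u' 1, v' 1] with hQ
  have hQU : (Q.map σ)ᵀ * Q = 1 := by
    simp only [hf] at e1 e2 e3 e4
    ext i j
    fin_cases i <;> fin_cases j <;> simp [Q, Matrix.mul_apply, Fin.sum_univ_two, e1, e2, e3, e4]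
  let g : GL (Fin 2) F := ⟨Q, (Q.map σ)ᵀ, mul_eq_one_comm.1 hQU, hQU⟩
  have hg : g ∈ U2 σ hσ := hQU
  refine ⟨g⁻¹, (U2 σ hσ).inv_mem hg, ?_⟩
  rw [inv_inv, mul_assoc, inv_mul_eq_iff_eq_mul]
  have hu' : M *ᵥ u' = u' := by rw [mulVec_smul, hu]
  have hv' : M *ᵥ v' = -v' := by rw [mulVec_smul, hv, smul_neg]
  have ecol : ∀ (z : Fin 2 → F) i, (M *ᵥ z) i = M i 0 * z 0 + M i 1 * z 1 := fun z i => by
    simp [mulVec, dotProduct, Fin.sum_univ_two]
  apply Units.ext
  show M * Q = Q * _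
  ext i j
  have c1 := congr_fun hu' i
  have c2 := congr_fun hv' i
  rw [ecol] at c1 c2
  fin_cases i <;> fin_cases j <;>
    simp [Q, dg_val, Matrix.mul_apply, Fin.sum_univ_two] at c1 c2 ⊢ <;>
    first | exact c1 | exact c2

/-! ### The monomial model -/

variable (σ) in
/-- Diagonal 2-elements of the unitary group in the basis `P`. -/
def D2 (hσ : ∀ x, σ (σ x) = x) (P : GL (Fin 2) F) : Subgroup (Fˣ × Fˣ) where
  carrier := {x | P * dg x * P⁻¹ ∈ U2 σ hσ ∧ ∃ m : ℕ, x ^ 2 ^ m = 1}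
  one_mem' := ⟨by simp, 0, one_pow _⟩
  mul_mem' {x y} hx hy := by
    obtain ⟨hx, m, hm⟩ := hx
    obtain ⟨hy, n, hn⟩ := hy
    refine ⟨?_, m + n, ?_⟩
    · rw [map_mul, show P * (dg x * dg y) * P⁻¹ = (P * dg x * P⁻¹) * (P * dg y * P⁻¹) by group]
      exact mul_mem hx hy
    · rw [mul_pow, pow_add, pow_mul, pow_mul, hm, one_pow, one_mul, ← pow_mul, mul_comm, pow_mul,
        hn, one_pow]
  inv_mem' {x} hx := by
    obtain ⟨hx, m, hm⟩ := hx
    refine ⟨?_, m, by rw [inv_pow, hm, inv_one]⟩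
    rw [map_inv, show P * (dg x)⁻¹ * P⁻¹ = (P * dg x * P⁻¹)⁻¹ by group]
    exact inv_mem hx

variable {P : GL (Fin 2) F}

/-- `dg` in the basis `P`. -/
def dP (P : GL (Fin 2) F) : Fˣ × Fˣ →* GL (Fin 2) F := (MulAut.conj P).toMonoidHom.comp dg

/-- The swap in the basis `P`. -/
def wP (P : GL (Fin 2) F) : GL (Fin 2) F := P * wS * P⁻¹

theorem dP_apply (x : Fˣ × Fˣ) : dP P x = P * dg x * P⁻¹ := rfl

theorem wP_mul_self : wP P * wP P = 1 := by
  rw [wP, show P * wS * P⁻¹ * (P * wS * P⁻¹) = P * (wS * wS) * P⁻¹ by group, wS_mul_self,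
    mul_one, mul_inv_cancel]

theorem wP_dP (x : Fˣ × Fˣ) : wP P * dP P x = dP P x.swap * wP P := by
  obtain ⟨u, v⟩ := x
  rw [Prod.swap_prod_mk, dP_apply, dP_apply, wP, ← wS_dg u v]
  group

theorem dP_injective : Function.Injective (dP P) := fun x y h => by
  have h' := mul_left_cancel (mul_right_cancel (show P * dg x * P⁻¹ = P * dg y * P⁻¹ from h))
  have := congrArg Units.val h'
  rw [dg_val, dg_val] at this
  exact Prod.ext (Units.ext (by simpa using congr_fun₂ this 0 0))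
    (Units.ext (by simpa using congr_fun₂ this 1 1))

theorem dP_neg_one : dP P (-1, -1) = -1 := by
  rw [dP_apply, show dg ((-1 : Fˣ), (-1 : Fˣ)) = (-1 : GL (Fin 2) F) from
    Units.ext (Matrix.ext fun i j => by fin_cases i <;> fin_cases j <;> simp [dg_val])]
  simp

/-- Monomial alternatives. -/
theorem cases_of_conj {A : GL (Fin 2) F} {x y : Fˣ × Fˣ} (hx : x.1 ≠ x.2)
    (h : A * dP P x * A⁻¹ = dP P y) : ∃ z, A = dP P z ∨ A = dP P z * wP P := by
  set B := P⁻¹ * A * P with hB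
  have hA : A = P * B * P⁻¹ := by rw [hB]; group
  have h' : B * dg x = dg y * B := by
    have : A * dP P x = dP P y * A := mul_inv_eq_iff_eq_mul.1 h
    rw [dP_apply, dP_apply, hA] at this
    calc B * dg x = P⁻¹ * (P * B * P⁻¹ * (P * dg x * P⁻¹)) * P := by group
      _ = dg y * B := by rw [this]; group
  have hm := congrArg Units.val h'
  clear_value B
  rw [Units.val_mul, Units.val_mul, dg_val, dg_val] at hm
  have e00 := congr_fun₂ hm 0 0
  have e01 := congr_fun₂ hm 0 1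
  have e10 := congr_fun₂ hm 1 0
  have e11 := congr_fun₂ hm 1 1
  simp [Matrix.mul_apply, Fin.sum_univ_two] at e00 e01 e10 e11
  have hdet : (B : Matrix (Fin 2) (Fin 2) F).det ≠ 0 :=
    (B.isUnit.map Matrix.detMonoidHom).ne_zero
  rw [det_fin_two] at hdet
  set M : Matrix (Fin 2) (Fin 2) F := (B : Matrix (Fin 2) (Fin 2) F) with hM
  have hne : (x.1 : F) ≠ x.2 := fun e => hx (Units.ext e)
  by_cases h00 : M 0 0 = 0
  · have h01 : M 0 1 ≠ 0 := fun e => hdet (by rw [h00, e]; ring)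
    have h10 : M 1 0 ≠ 0 := fun e => hdet (by rw [h00, e]; ring)
    have f1 : (y.1 : F) = x.2 := mul_right_cancel₀ h01 (by linear_combination -e01)
    have f2 : (y.2 : F) = x.1 := mul_right_cancel₀ h10 (by linear_combination -e10)
    have h11 : M 1 1 = 0 := by
      have : M 1 1 * ((x.2 : F) - x.1) = 0 := by linear_combination e11 + (M 1 1) * f2
      exact (mul_eq_zero.1 this).resolve_right (sub_ne_zero.2 hne.symm)
    refine ⟨(Units.mk0 _ h01, Units.mk0 _ h10), Or.inr ?_⟩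
    have hBe : B = dg (Units.mk0 _ h01, Units.mk0 _ h10) * wS := by
      refine Units.ext (Matrix.ext fun i j => ?_)
      rw [Units.val_mul, dg_val, wS_val, ← hM]
      fin_cases i <;> fin_cases j <;> simp [h00, h11]
    rw [hA, hBe, dP_apply, wP]; group
  · have f1 : (y.1 : F) = x.1 := mul_right_cancel₀ h00 (by linear_combination -e00)
    have h01 : M 0 1 = 0 := by
      have : M 0 1 * ((x.2 : F) - x.1) = 0 := by linear_combination e01 + (M 0 1) * f1
      exact (mul_eq_zero.1 this).resolve_right (sub_ne_zero.2 hne.symm)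
    have h11 : M 1 1 ≠ 0 := fun e => hdet (by rw [h01, e]; ring)
    have f2 : (y.2 : F) = x.2 := mul_right_cancel₀ h11 (by linear_combination -e11)
    have h10 : M 1 0 = 0 := by
      have : M 1 0 * ((x.1 : F) - x.2) = 0 := by linear_combination e10 + (M 1 0) * f2
      exact (mul_eq_zero.1 this).resolve_right (sub_ne_zero.2 hne)
    refine ⟨(Units.mk0 _ h00, Units.mk0 _ h11), Or.inl ?_⟩
    have hBe : B = dg (Units.mk0 _ h00, Units.mk0 _ h11) := by
      refine Units.ext (Matrix.ext fun i j => ?_)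
      rw [dg_val, ← hM]
      fin_cases i <;> fin_cases j <;> simp [h01, h10]
    rw [hA, hBe, dP_apply]

/-- The data of a monomial model. -/
structure MonoData (σ : F ≃+* F) (hσ : ∀ x, σ (σ x) = x) (P : GL (Fin 2) F) : Prop where
  w_mem : wP P ∈ U2 σ hσ
  exists_regular : ∃ d ∈ D2 σ hσ P, d.1 ^ 2 ≠ d.2 ^ 2

namespace MonoData

variable {σ : F ≃+* F} {hσ : ∀ x, σ (σ x) = x} {P : GL (Fin 2) F} (hM : MonoData σ hσ P)

include hM

theorem dP_mem_U2 {x : Fˣ × Fˣ} (hx : x ∈ D2 σ hσ P) : dP P x ∈ U2 σ hσ := hx.1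

theorem swap_mem {x : Fˣ × Fˣ} (hx : x ∈ D2 σ hσ P) : x.swap ∈ D2 σ hσ P := by
  obtain ⟨hxU, m, hm⟩ := hx
  refine ⟨?_, m, by rw [← Prod.pow_swap, hm]; rfl⟩
  have e : dP P x.swap = wP P * dP P x * wP P := by
    rw [wP_dP, mul_assoc, wP_mul_self, mul_one]
  rw [← dP_apply, e]
  exact mul_mem (mul_mem hM.w_mem hxU) hM.w_mem

/-- The monomial 2-group. -/
def S : Subgroup (GL (Fin 2) F) where
  carrier := {g | ∃ x ∈ D2 σ hσ P, g = dP P x ∨ g = dP P x * wP P}
  one_mem' := ⟨1, one_mem _, Or.inl (map_one _).symm⟩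
  mul_mem' := by
    rintro _ _ ⟨x, hx, rfl | rfl⟩ ⟨y, hy, rfl | rfl⟩
    · exact ⟨x * y, mul_mem hx hy, Or.inl (map_mul _ _ _).symm⟩
    · exact ⟨x * y, mul_mem hx hy, Or.inr (by rw [map_mul, mul_assoc])⟩
    · exact ⟨x * y.swap, mul_mem hx (hM.swap_mem hy), Or.inr (by rw [mul_assoc, wP_dP, map_mul, mul_assoc])⟩
    · refine ⟨x * y.swap, mul_mem hx (hM.swap_mem hy), Or.inl ?_⟩
      rw [show dP P x * wP P * (dP P y * wP P) = dP P x * (wP P * dP P y) * wP P by group, wP_dP,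
        map_mul, mul_assoc (dP P x), mul_assoc (dP P y.swap), wP_mul_self, mul_one]
  inv_mem' := by
    rintro _ ⟨x, hx, rfl | rfl⟩
    · exact ⟨x⁻¹, inv_mem hx, Or.inl (map_inv _ _).symm⟩
    · refine ⟨x⁻¹.swap, hM.swap_mem (inv_mem hx), Or.inr ?_⟩
      rw [← wP_dP, map_inv, _root_.mul_inv_rev, show (wP P)⁻¹ = wP P from
        inv_eq_of_mul_eq_one_right wP_mul_self]

theorem dP_mem {x : Fˣ × Fˣ} (hx : x ∈ D2 σ hσ P) : dP P x ∈ hM.S := ⟨x, hx, Or.inl rfl⟩

theorem wP_mem : wP P ∈ hM.S := ⟨1, one_mem _, Or.inr (by rw [map_one, one_mul])⟩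

theorem le_U2 : hM.S ≤ U2 σ hσ := by
  rintro _ ⟨x, hx, rfl | rfl⟩
  · exact hx.1
  · exact mul_mem hx.1 hM.w_mem

omit hM in
theorem neg_one_D2 : ((-1 : Fˣ), (-1 : Fˣ)) ∈ D2 σ hσ P := by
  refine ⟨?_, 1, by simp⟩
  rw [← dP_apply, dP_neg_one]
  exact neg_one_mem_U2

theorem neg_one_mem : (-1 : GL (Fin 2) F) ∈ hM.S := dP_neg_one (P := P) ▸ hM.dP_mem neg_one_D2

theorem isPGroup : IsPGroup 2 hM.S := by
  rintro ⟨g, x, hx, rfl | rfl⟩
  · obtain ⟨m, hm⟩ := hx.2
    exact ⟨m, Subtype.ext (show dP P x ^ 2 ^ m = 1 by rw [← map_pow, hm, map_one])⟩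
  · obtain ⟨m, hm⟩ := (mul_mem hx (hM.swap_mem hx)).2
    refine ⟨m + 1, Subtype.ext (show (dP P x * wP P) ^ 2 ^ (m + 1) = 1 from ?_)⟩
    rw [pow_succ', pow_mul, pow_two, show dP P x * wP P * (dP P x * wP P) =
      dP P x * (wP P * dP P x) * wP P by group, wP_dP, mul_assoc (dP P x),
      mul_assoc (dP P x.swap), wP_mul_self, mul_one, ← map_mul, ← map_pow, hm, map_one]

theorem not_commute_anti {d x : Fˣ × Fˣ} (hd : d.1 ≠ d.2) :
    dP P x * wP P * dP P d ≠ dP P d * (dP P x * wP P) := fun h => by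
  rw [mul_assoc, wP_dP, ← mul_assoc, ← mul_assoc, ← map_mul, ← map_mul] at h
  have := dP_injective (mul_right_cancel h)
  have h1 := congrArg Prod.fst this
  simp only [Prod.fst_mul, Prod.fst_swap] at h1
  rw [mul_comm d.1] at h1
  exact hd (mul_left_cancel h1).symm

theorem eq_neg_one {c : GL (Fin 2) F} (hc : c ∈ hM.S) (hcc : c * c = 1) (hc1 : c ≠ 1)
    (hcom : ∀ s ∈ hM.S, s * c = c * s) : c = -1 := by
  obtain ⟨d, hd, hd2⟩ := hM.exists_regular
  obtain ⟨x, hx, rfl | rfl⟩ := hc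
  · have h := hcom _ hM.wP_mem
    rw [wP_dP] at h
    have e := congrArg Prod.fst (dP_injective (mul_right_cancel h))
    simp only [Prod.fst_swap] at e
    rw [← map_mul] at hcc
    have e2 := congrArg Prod.fst (dP_injective (hcc.trans (map_one _).symm))
    have e3 : (x.1 : F) * x.1 = 1 := by simpa using congrArg Units.val e2
    rcases mul_self_eq_one_iff.1 e3 with h1 | h1
    · exact absurd (show dP P x = 1 by
        rw [show x = 1 from Prod.ext (Units.ext h1) (Units.ext (by rw [e]; exact h1)), map_one]) hc1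
    · rw [show x = ((-1 : Fˣ), (-1 : Fˣ)) from
        Prod.ext (Units.ext (by simpa using h1)) (Units.ext (by rw [e]; simpa using h1)), dP_neg_one]
  · exact absurd (hcom _ (hM.dP_mem hd)).symm (hM.not_commute_anti fun e => hd2 (by rw [e]))

theorem monomial {A : GL (Fin 2) F} (hA : ∀ s ∈ hM.S, A * s * A⁻¹ ∈ hM.S) :
    ∃ z, A = dP P z ∨ A = dP P z * wP P := by
  obtain ⟨d, hd, hd2⟩ := hM.exists_regular
  obtain ⟨y, hy, h | h⟩ := hA _ (hM.dP_mem hd)
  · exact cases_of_conj (fun e => hd2 (by rw [e])) h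
  · exfalso
    have h' : A * dP P (d * d) * A⁻¹ = dP P (y * y.swap) := by
      rw [map_mul, show A * (dP P d * dP P d) * A⁻¹ =
        (A * dP P d * A⁻¹) * (A * dP P d * A⁻¹) by group, h, show dP P y * wP P * (dP P y * wP P) =
        dP P y * (wP P * dP P y) * wP P by group, wP_dP, mul_assoc (dP P y),
        mul_assoc (dP P y.swap), wP_mul_self, mul_one, map_mul]
    have hs : (d * d).1 ≠ (d * d).2 := fun e => hd2 (by simpa [sq] using e)
    obtain ⟨z, hz | hz⟩ := cases_of_conj hs h'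
    · rw [hz, ← map_inv, ← map_mul, ← map_mul] at h'
      have := dP_injective h'
      rw [mul_inv_cancel_comm] at this
      apply hs
      rw [this]
      simp [mul_comm]
    · rw [hz, show dP P z * wP P * dP P (d * d) * (dP P z * wP P)⁻¹ =
        dP P z * (wP P * dP P (d * d)) * (wP P)⁻¹ * (dP P z)⁻¹ by group, wP_dP,
        ← mul_assoc, mul_inv_cancel_right, ← map_inv, ← map_mul, ← map_mul] at h'
      have := dP_injective h'
      rw [mul_inv_cancel_comm] at this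
      apply hs
      have h1 := congrArg Prod.fst this
      have h2' := congrArg Prod.snd this
      simp only [Prod.fst_swap, Prod.snd_swap, Prod.fst_mul, Prod.snd_mul] at h1 h2'
      simp only [Prod.fst_mul, Prod.snd_mul, h1, h2', mul_comm]

theorem ratio {z : Fˣ × Fˣ} (hA : ∀ s ∈ hM.S, dP P z * s * (dP P z)⁻¹ ∈ hM.S) :
    z * z.swap⁻¹ ∈ D2 σ hσ P := by
  have h := hA _ hM.wP_mem
  have e : dP P z * wP P * (dP P z)⁻¹ = dP P (z * z.swap⁻¹) * wP P := by
    rw [← map_inv, mul_assoc, wP_dP, ← mul_assoc, ← map_mul]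
    rfl
  rw [e] at h
  obtain ⟨x, hx, hh | hh⟩ := h
  · exfalso
    obtain ⟨d, hd, hd2⟩ := hM.exists_regular
    refine hM.not_commute_anti (x := z * z.swap⁻¹) (d := d) (fun e => hd2 (by rw [e])) ?_
    rw [hh, ← map_mul, ← map_mul, mul_comm]
  · rwa [dP_injective (mul_right_cancel hh)]

/-- A normalizing element of odd order modulo the centre centralizes. -/
theorem centralizes {A : GL (Fin 2) F} (hA : ∀ s ∈ hM.S, A * s * A⁻¹ ∈ hM.S) {r : ℕ} (hr : ¬ 2 ∣ r)
    (hAr : ∀ g : GL (Fin 2) F, A ^ r * g = g * A ^ r) : ∀ s ∈ hM.S, A * s * A⁻¹ = s := by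
  obtain ⟨z, rfl | rfl⟩ := hM.monomial hA
  · have hmem := hM.ratio hA
    obtain ⟨m, hm⟩ := hmem.2
    have hrr : (z * z.swap⁻¹) ^ r = 1 := by
      have h := hAr (wP P)
      rw [← map_pow, wP_dP] at h
      have h' := dP_injective (mul_right_cancel h)
      rw [mul_pow, inv_pow, ← Prod.pow_swap, ← h', mul_inv_cancel]
    have h1 : z * z.swap⁻¹ = 1 := orderOf_eq_one_iff.1 (Nat.eq_one_of_dvd_coprimes
      (Nat.Coprime.pow_left m ((Nat.prime_two.coprime_iff_not_dvd).2 hr))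
      (orderOf_dvd_of_pow_eq_one hm) (orderOf_dvd_of_pow_eq_one hrr))
    rw [mul_inv_eq_one] at h1
    rintro _ ⟨x, -, rfl | rfl⟩
    · rw [← map_inv, ← map_mul, ← map_mul, mul_inv_cancel_comm]
    · rw [← map_inv, show dP P z * (dP P x * wP P) * dP P z⁻¹ =
        dP P z * dP P x * (wP P * dP P z⁻¹) by group, wP_dP, ← map_mul, ← mul_assoc, ← map_mul,
        show (z⁻¹).swap = z⁻¹ from congrArg (·⁻¹) h1.symm, mul_inv_cancel_comm]
  · exfalso
    obtain ⟨d, hd, hd2⟩ := hM.exists_regular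
    obtain ⟨j, rfl⟩ := Nat.odd_iff.2 (Nat.two_dvd_ne_zero.1 hr)
    have hsq : (dP P z * wP P) ^ 2 = dP P (z * z.swap) := by
      rw [sq, show dP P z * wP P * (dP P z * wP P) = dP P z * (wP P * dP P z) * wP P by group,
        wP_dP, mul_assoc (dP P z), mul_assoc (dP P z.swap), wP_mul_self, mul_one, map_mul]
    have hpow : (dP P z * wP P) ^ (2 * j + 1) = dP P ((z * z.swap) ^ j * z) * wP P := by
      rw [pow_succ, pow_mul, hsq, ← map_pow, map_mul, mul_assoc]
    refine hM.not_commute_anti (x := (z * z.swap) ^ j * z) (d := d) (fun e => hd2 (by rw [e])) ?_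
    rw [← hpow]
    exact hAr _

/-- A normalizing 2-element of the unitary group lies in `S`. -/
theorem mem_of_normalizes {A : GL (Fin 2) F} (hAU : A ∈ U2 σ hσ)
    (hA : ∀ s ∈ hM.S, A * s * A⁻¹ ∈ hM.S) {m : ℕ} (hm : A ^ 2 ^ m = 1) : A ∈ hM.S := by
  obtain ⟨z, rfl | rfl⟩ := hM.monomial hA
  · refine hM.dP_mem ⟨hAU, m, dP_injective (P := P) ?_⟩
    rw [map_pow, hm, map_one]
  · have hd : ∀ s ∈ hM.S, dP P z * s * (dP P z)⁻¹ ∈ hM.S := by
      intro s hs
      have := hA _ (mul_mem (mul_mem hM.wP_mem hs) (inv_mem hM.wP_mem))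
      simpa [mul_assoc, show (wP P)⁻¹ = wP P from inv_eq_of_mul_eq_one_right wP_mul_self,
        wP_mul_self, _root_.mul_inv_rev, ← mul_assoc (wP P) (wP P)] using this
    obtain ⟨n, hn⟩ := (hM.ratio hd).2
    refine ⟨z, ⟨?_, m + n + 2, ?_⟩, Or.inr rfl⟩
    · rw [← dP_apply]
      have := mul_mem hAU hM.w_mem
      rwa [mul_assoc, wP_mul_self, mul_one] at this
    · have h1 : (z * z.swap) ^ 2 ^ m = 1 := by
        have hsq : (dP P z * wP P) ^ 2 = dP P (z * z.swap) := by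
          rw [sq, show dP P z * wP P * (dP P z * wP P) = dP P z * (wP P * dP P z) * wP P by group,
            wP_dP, mul_assoc (dP P z), mul_assoc (dP P z.swap), wP_mul_self, mul_one, map_mul]
        apply dP_injective (P := P)
        rw [map_pow, ← hsq, ← pow_mul, mul_comm, pow_mul, hm, one_pow, map_one]
      have h2' : (z * z) ^ 2 ^ (m + n) = 1 := by
        rw [show z * z = (z * z.swap) * (z * z.swap⁻¹) by rw [mul_mul_mul_comm, mul_inv_cancel, mul_one],
          mul_pow, pow_add, pow_mul, h1, one_pow, one_mul, mul_comm (2 ^ m), pow_mul, hn, one_pow]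
      rw [show m + n + 2 = (m + n) + 1 + 1 from rfl, pow_succ (2 : ℕ) (m + n + 1), pow_mul,
        pow_succ' (2 : ℕ) (m + n), pow_mul, pow_two z, h2', one_pow]

end MonoData

end CfsgLib.GL2
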